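import Groth.Agent.L15.RadAnti.Main
import Groth.Agent.L14.TypeR.AsymSolv
import Groth.Agent.L25.Dyn.CentConn
import Groth.Agent.L25.Locus.Transporter

/-!
The intersection of a subgroup of type (R) containing a maximal torus with the centraliser of a subtorus.
-/

set_option autoImplicit false
set_option linter.style.haveILetI false
set_option linter.unusedSectionVars false
set_option backward.isDefEq.respectTransparency.types false
set_option maxHeartbeats 800000
universe u

open CategoryTheory CategoryTheory.Limits AlgebraicGeometry MonoidalCategory CartesianMonoidalCategory MonObj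
open Groth.L08.TorusWeights

noncomputable section

namespace Groth.L15.TypeRCent

variable {S : Scheme.{u}}

/-- **Intersection with the centraliser of a subtorus is of type (R).** -/
theorem isTypeR_inter {G T Q Z H : Over S} [GrpObj G] [GrpObj T] [GrpObj Q]
    [GrpObj Z] [GrpObj H] (hG : Red.IsReductive G) (i : T ⟶ G) (hT : Red.IsMaximalTorus i) (q : Q ⟶ T) [IsMonHom q]
    [Mono q] (hQ : Red.IsTorus Q) (z : Z ⟶ G) (hZ : Red.IsCentralizerOf (q ≫ i) z) (h : H ⟶ G)
    (hH : RedSub.IsTypeR h) (t : T ⟶ H) (ht : t ≫ h = i)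
    (P : Over S) [GrpObj P] (a : P ⟶ H) (b : P ⟶ Z) [IsMonHom a] [IsMonHom b] (hP : IsPullback a b h z) :
    RedSub.IsTypeR b := by
  haveI := hG.1; haveI := hG.2.1; haveI := hH.1.1; haveI := hH.1.2; haveI := hH.2.1; haveI := hH.2.2.1
  haveI := hT.1; haveI := hT.2.1; haveI := hZ.1; haveI := hZ.2.1
  haveI : Mono h := Over.mono_of_mono_left h
  haveI : Mono a := hP.mono_fst_of_mono
  haveI : IsMonHom t := Groth.L08.TorusWeights.isMonHom_of_mono t h i ht
  haveI : IsSeparated H.hom := by rw [← Over.w h]; infer_instance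
  have hc : Red.IsCentralizerOf (q ≫ t) a := by
    refine ⟨inferInstance, inferInstance, fun X x => ⟨?_, fun hx => ?_⟩⟩
    · rintro ⟨w, rfl⟩ X' y p
      rw [← cancel_mono h, MonObj.mul_comp, MonObj.mul_comp]
      simp only [Category.assoc, hP.w, ht]
      simpa only [Category.assoc] using commute_centralizer hZ (y ≫ w ≫ b) p
    · obtain ⟨v, hv⟩ := (hZ.2.2 X (x ≫ h)).2 fun X' y p => by
        have := congrArg (· ≫ h) (hx X' y p)
        simpa only [MonObj.mul_comp, Category.assoc, ht] using this
      exact ⟨hP.lift x v hv.symm, hP.lift_fst _ _ _⟩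
  obtain ⟨P₀, _, a₀, hc₀, hcl, hsm⟩ := Groth.L25.Locus.exists_smooth_centralizer
    (Groth.L25.Locus.locally_of_multTypeFT (Groth.L25.Locus.isMultTypeFT_of_isTorus hQ)) (q ≫ t)
  obtain ⟨e, he, -, -, -⟩ := exists_iso_centralizer hc hc₀
  haveI : IsIso e.hom.left := inferInstanceAs (IsIso ((Over.forget _).map e.hom))
  haveI : Smooth P.hom := by rw [← Over.w e.hom]; infer_instance
  haveI : IsClosedImmersion a.left := by rw [← he, Over.comp_left]; infer_instance
  haveI : QuasiCompact P.hom := by rw [← Over.w a]; infer_instance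
  haveI hbimm : IsImmersion b.left :=
    MorphismProperty.of_isPullback (P := @IsImmersion) (hP.map (Over.forget S)) hH.1.2
  refine ⟨⟨inferInstance, hbimm⟩, inferInstance, inferInstance, fun s => ?_, fun s => ?_⟩
  · let j : Spec (CommRingCat.of (S.residueField s : Type u)) ⟶ S := S.fromSpecResidueField s
    haveI : IsClosedImmersion ((Over.pullback j).map h).left :=
      Groth.L14.TypeR.isClosedImmersion_bc_immersion hH.1.2 j
    haveI : IsAffineHom (Red.bc j G).hom := MorphismProperty.pullback_snd (P := @IsAffineHom) _ _ hG.1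
    haveI : IsAffine (Red.bc j G).left := isAffine_of_isAffineHom (Red.bc j G).hom
    haveI : IsAffine (Red.bc j H).left := isAffine_of_isAffineHom ((Over.pullback j).map h).left
    haveI : Smooth (Red.bc j H).hom := MorphismProperty.pullback_snd (P := @Smooth) _ _ hH.2.1
    haveI : ConnectedSpace (Red.bc j H).left :=
      Groth.L02.SchDom.connectedSpace_fiber_of_isConnected H.hom s (hH.2.2.2.1 s)
    haveI : IsMonHom ((Over.pullback j).map (q ≫ t)) := Groth.L25.MonoClosed.isMonHom_pullbackMap _ _
    have := Groth.L25.Dyn.connectedSpace_centralizer (Red.bc j H) (Red.bc j Q) ((Over.pullback j).map (q ≫ t))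
      (Groth.L25.Locus.isTorus_bc hQ j) (Red.bc j P) ((Over.pullback j).map a)
      (Groth.L08.Borel.isCentralizerOf_bc j hc)
    haveI : ConnectedSpace ↥(P.hom.fiber s) := this
    exact isConnected_iff_connectedSpace.2
      ((P.hom.fiberHomeo s).surjective.connectedSpace (P.hom.fiberHomeo s).continuous)
  · obtain ⟨w, hw⟩ := (hZ.2.2 T i).2 fun X' x p => by
      rw [← Category.assoc p q i, ← MonObj.mul_comp, ← MonObj.mul_comp, torus_comm hT.2.2.1]
    let tP : T ⟶ P := hP.lift t w (by rw [ht, hw])
    have htPz : tP ≫ b ≫ z = i := by rw [← Category.assoc, hP.lift_snd, hw]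
    haveI : IsMonHom tP := Groth.L08.TorusWeights.isMonHom_of_mono tP a t (hP.lift_fst _ _ _)
    let F := Over.pullback (Red.geomPt s)
    haveI : IsMonHom (F.map z) := Groth.L25.MonoClosed.isMonHom_pullbackMap _ _
    haveI : IsMonHom (F.map b) := Groth.L25.MonoClosed.isMonHom_pullbackMap _ _
    haveI : IsMonHom (F.map tP) := Groth.L25.MonoClosed.isMonHom_pullbackMap _ _
    refine ⟨Red.geomFibre s T, inferInstance, F.map tP, inferInstance,
      Groth.L15.Killing.isMaximalTorus_of_comp _ (F.map z) ?_⟩
    rw [Category.assoc, ← Functor.map_comp, ← Functor.map_comp, htPz]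
    exact Groth.L08.Borel.isMaximalTorus_bc hT (Red.geomPt s)

end Groth.L15.TypeRCent

end
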